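import Mathlib

/-!
# Local ring of the fibre of a retraction at a point of a Cartier section (algebra)

* `isDVR_of_principal`: a Noetherian local ring whose maximal ideal is generated by one non-nilpotent
  element is a discrete valuation ring.
* `main`: `φ : A → B` local, `ψ : B → A'` surjective with `ψ ∘ φ` bijective, `ker ψ = (t)` with `t` a
  nonzerodivisor, `B / φ(m_A) B` Noetherian ⟹ `B / φ(m_A) B` is a DVR.
-/

set_option autoImplicit false

namespace Groth.Agent.Lib.Helper24.SecDvr

open IsLocalRing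

section Principal

variable {C : Type*} [CommRing C] [IsLocalRing C] [IsNoetherianRing C]

theorem exists_unit_mul_pow (t : C) (ht : maximalIdeal C = Ideal.span {t}) (x : C) (hx : x ≠ 0) :
    ∃ (u : Cˣ) (k : ℕ), x = u * t ^ k := by
  have hbot : ⨅ i, maximalIdeal C ^ i = ⊥ :=
    Ideal.iInf_pow_eq_bot_of_isLocalRing _ (maximalIdeal.isMaximal C).ne_top
  have hex : ∃ n, x ∉ maximalIdeal C ^ n := by
    by_contra hcon
    push_neg at hcon
    have : x ∈ ⨅ i, maximalIdeal C ^ i := by
      rw [Ideal.mem_iInf]; exact hcon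
    rw [hbot] at this
    exact hx this
  classical
  let n := Nat.find hex
  have hn : x ∉ maximalIdeal C ^ n := Nat.find_spec hex
  have hn0 : n ≠ 0 := by
    intro h0
    rw [h0, pow_zero, Ideal.one_eq_top] at hn
    exact hn Submodule.mem_top
  obtain ⟨k, hk⟩ := Nat.exists_eq_succ_of_ne_zero hn0
  have hk' : x ∈ maximalIdeal C ^ k := by
    by_contra hcon
    have := Nat.find_min' hex hcon
    omega
  rw [ht, Ideal.span_singleton_pow, Ideal.mem_span_singleton] at hk'
  obtain ⟨u, hu⟩ := hk'
  have huu : IsUnit u := by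
    by_contra hcon
    have hum : u ∈ maximalIdeal C := (mem_maximalIdeal u).2 hcon
    rw [ht, Ideal.mem_span_singleton] at hum
    obtain ⟨w, hw⟩ := hum
    apply hn
    rw [hk, ht, Ideal.span_singleton_pow, Ideal.mem_span_singleton]
    exact ⟨w, by rw [hu, hw, pow_succ]; ring⟩
  exact ⟨huu.unit, k, by rw [hu, IsUnit.unit_spec]; ring⟩

theorem isDVR_of_principal (t : C) (ht : maximalIdeal C = Ideal.span {t}) (hnil : ¬ IsNilpotent t) :
    ∃ _ : IsDomain C, IsDiscreteValuationRing C := by
  haveI : NoZeroDivisors C := by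
    refine ⟨fun {x y} hxy => ?_⟩
    by_contra hcon
    push_neg at hcon
    obtain ⟨u, k, hu⟩ := exists_unit_mul_pow t ht x hcon.1
    obtain ⟨w, l, hw⟩ := exists_unit_mul_pow t ht y hcon.2
    apply hnil
    refine ⟨k + l, ?_⟩
    have h1 : (u * w : C) * t ^ (k + l) = 0 := by
      rw [← hxy, hu, hw, pow_add]; ring
    have h2 : IsUnit ((u : C) * w) := (u * w).isUnit
    exact (h2.mul_right_eq_zero).1 h1
  haveI : IsDomain C := NoZeroDivisors.to_isDomain C
  refine ⟨inferInstance, ?_⟩
  have hnf : ¬ IsField C := by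
    rw [isField_iff_maximalIdeal_eq, ht]
    intro h0
    have : t = 0 := by
      have := Ideal.span_singleton_eq_bot.1 h0
      exact this
    exact hnil ⟨1, by rw [this, pow_one]⟩
  refine ((IsDiscreteValuationRing.TFAE C hnf).out 0 4).2 ?_
  rw [ht]
  exact ⟨⟨t, rfl⟩⟩

end Principal

section Main

variable {A B A' : Type*} [CommRing A] [CommRing B] [CommRing A'] [IsLocalRing A] [IsLocalRing B]
  [IsLocalRing A']

/-- coefficient extraction: if `t ^ n ∈ φ(m_A) B` then `False`. -/
theorem pow_notMem_map (φ : A →+* B) [IsLocalHom φ] (ψ : B →+* A') (hψφ : Function.Bijective (ψ.comp φ))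
    (t : B) (htz : t ∈ nonZeroDivisors B) (hker : RingHom.ker ψ = Ideal.span {t}) (n : ℕ) :
    t ^ n ∉ (maximalIdeal A).map φ := by
  classical
  letI := φ.toAlgebra
  -- the retraction `ρ : B → A`
  let e : A ≃+* A' := RingEquiv.ofBijective (ψ.comp φ) hψφ
  let ρ : B →+* A := (e.symm : A' →+* A).comp ψ
  have hρφ : ∀ a, ρ (φ a) = a := fun a => by
    show e.symm (ψ (φ a)) = a
    exact e.symm_apply_apply a
  have hρt : ρ t = 0 := by
    show e.symm (ψ t) = 0
    have : ψ t = 0 := by
      have : t ∈ RingHom.ker ψ := by rw [hker]; exact Ideal.mem_span_singleton_self t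
      exact this
    rw [this, map_zero]
  have hdiv : ∀ b : B, ∃ b₁ : B, b - φ (ρ b) = t * b₁ := by
    intro b
    have : b - φ (ρ b) ∈ RingHom.ker ψ := by
      rw [RingHom.mem_ker, map_sub, sub_eq_zero]
      have := e.apply_symm_apply (ψ b)
      exact this.symm
    rw [hker, Ideal.mem_span_singleton] at this
    exact this
  choose δ hδ using hdiv
  have htcancel : ∀ a b : B, t * a = t * b → a = b := fun a b h => by
    have h1 : (a - b) * t = 0 := by rw [sub_mul, mul_comm a, mul_comm b, h, sub_self]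
    exact sub_eq_zero.1 (htz.2 _ h1)
  have hδadd : ∀ b c, δ (b + c) = δ b + δ c := by
    intro b c
    apply htcancel
    rw [← hδ, mul_add, ← hδ, ← hδ, map_add, map_add]; ring
  have hδsmul : ∀ (a : A) b, δ (φ a * b) = φ a * δ b := by
    intro a b
    apply htcancel
    rw [← hδ, mul_left_comm, ← hδ, map_mul, map_mul, hρφ]; ring
  have hδt : ∀ b, δ (t * b) = b := by
    intro b
    apply htcancel
    rw [← hδ, map_mul, hρt, zero_mul, map_zero, sub_zero]
  -- the coefficient functionals
  have hadd : ∀ n : ℕ, ∀ b c, δ^[n] (b + c) = δ^[n] b + δ^[n] c := by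
    intro n
    induction n with
    | zero => intro b c; rfl
    | succ n ih =>
      intro b c
      rw [Function.iterate_succ_apply', Function.iterate_succ_apply', Function.iterate_succ_apply',
        ih, hδadd]
  have hsmul : ∀ n : ℕ, ∀ (a : A) b, δ^[n] (φ a * b) = φ a * δ^[n] b := by
    intro n
    induction n with
    | zero => intro a b; rfl
    | succ n ih =>
      intro a b
      rw [Function.iterate_succ_apply', Function.iterate_succ_apply', ih, hδsmul]
  have hzero : ∀ n : ℕ, δ^[n] 0 = 0 := by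
    intro n
    have := hsmul n 0 0
    rw [map_zero, zero_mul, zero_mul] at this
    exact this
  have key : ∀ x ∈ (maximalIdeal A • ⊤ : Submodule A B), ρ (δ^[n] x) ∈ maximalIdeal A := by
    intro x hx
    refine Submodule.smul_induction_on hx ?_ ?_
    · intro a ha b _
      rw [Algebra.smul_def]
      show ρ (δ^[n] (φ a * b)) ∈ _
      rw [hsmul, map_mul, hρφ]
      exact Ideal.mul_mem_right _ _ ha
    · intro x y hx hy
      rw [hadd, map_add]; exact Ideal.add_mem _ hx hy
  have hpow : ∀ k : ℕ, δ^[k] (t ^ k) = 1 := by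
    intro k
    induction k with
    | zero => rw [Function.iterate_zero, id_eq, pow_zero]
    | succ k ih =>
      rw [Function.iterate_succ_apply, pow_succ', hδt, ih]
  intro hmem
  have hmem' : t ^ n ∈ (maximalIdeal A • ⊤ : Submodule A B) := by
    rw [Ideal.smul_top_eq_map]
    exact hmem
  have h1 := key _ hmem'
  rw [hpow, map_one] at h1
  exact (maximalIdeal.isMaximal A).ne_top ((Ideal.eq_top_iff_one _).2 h1)

theorem maximalIdeal_eq_sup (φ : A →+* B) [IsLocalHom φ] (ψ : B →+* A')
    (hψφ : Function.Bijective (ψ.comp φ))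
    (t : B) (hker : RingHom.ker ψ = Ideal.span {t}) :
    maximalIdeal B = (maximalIdeal A).map φ ⊔ Ideal.span {t} := by
  have htm : t ∈ maximalIdeal B := by
    rw [mem_maximalIdeal, mem_nonunits_iff]
    intro hu
    have h1 : (1 : B) ∈ RingHom.ker ψ := by
      rw [hker, Ideal.mem_span_singleton]
      exact hu.dvd
    rw [RingHom.mem_ker, map_one] at h1
    exact one_ne_zero h1
  apply le_antisymm
  · intro b hb
    let e : A ≃+* A' := RingEquiv.ofBijective (ψ.comp φ) hψφ
    let a : A := e.symm (ψ b)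
    have hdiv : b - φ a ∈ RingHom.ker ψ := by
      rw [RingHom.mem_ker, map_sub, sub_eq_zero]
      exact (e.apply_symm_apply (ψ b)).symm
    rw [hker] at hdiv
    have ha : a ∈ maximalIdeal A := by
      rw [mem_maximalIdeal, mem_nonunits_iff]
      intro hu
      have h2 : b - φ a ∈ maximalIdeal B :=
        (Ideal.span_singleton_le_iff_mem (I := maximalIdeal B)).2 htm hdiv
      have h3 : φ a ∈ maximalIdeal B := by
        have := Ideal.sub_mem _ hb h2
        rwa [sub_sub_cancel] at this
      exact (mem_maximalIdeal _).1 h3 (hu.map φ)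
    have : b = φ a + (b - φ a) := by ring
    rw [this]
    exact Ideal.add_mem _ (Ideal.mem_sup_left (Ideal.mem_map_of_mem _ ha)) (Ideal.mem_sup_right hdiv)
  · refine sup_le (map_maximalIdeal_le φ) ?_
    rw [Ideal.span_singleton_le_iff_mem]
    exact htm

theorem main (φ : A →+* B) [IsLocalHom φ] (ψ : B →+* A')
    (hψφ : Function.Bijective (ψ.comp φ))
    (t : B) (htz : t ∈ nonZeroDivisors B) (hker : RingHom.ker ψ = Ideal.span {t})
    [IsNoetherianRing (B ⧸ (maximalIdeal A).map φ)] :
    ∃ _ : IsDomain (B ⧸ (maximalIdeal A).map φ),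
      IsDiscreteValuationRing (B ⧸ (maximalIdeal A).map φ) := by
  set I := (maximalIdeal A).map φ with hI
  haveI : Nontrivial (B ⧸ I) :=
    Ideal.Quotient.nontrivial_iff.2 (map_maximalIdeal_lt_top φ).ne
  haveI : IsLocalRing (B ⧸ I) :=
    IsLocalRing.of_surjective' (Ideal.Quotient.mk I) Ideal.Quotient.mk_surjective
  have hm : maximalIdeal (B ⧸ I) = Ideal.span {Ideal.Quotient.mk I t} := by
    rw [← map_maximalIdeal_of_surjective (Ideal.Quotient.mk I) Ideal.Quotient.mk_surjective,
      maximalIdeal_eq_sup φ ψ hψφ t hker, Ideal.map_sup, Ideal.map_quotient_self, bot_sup_eq,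
      Ideal.map_span, Set.image_singleton]
  refine isDVR_of_principal _ hm ?_
  rintro ⟨n, hn⟩
  rw [← map_pow, Ideal.Quotient.eq_zero_iff_mem] at hn
  exact pow_notMem_map φ ψ hψφ t htz hker n hn

end Main

end Groth.Agent.Lib.Helper24.SecDvr
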