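import Mathlib
import Groth.Prelude.Def_BlowUp2
import Groth.Agent.Lib.Helper21.FibreStalk
import Groth.Agent.Lib.Helper24.SecDvr.Alg

/-!
# The fibre of a retraction at a point of a Cartier section has a DVR as local ring
-/

set_option autoImplicit false
universe u

open AlgebraicGeometry CategoryTheory Limits IsLocalRing

namespace Groth.Agent.Lib.Helper24.SecDvr

/-- the kernel of the stalk map of a closed immersion is generated by the germs of the ideal. -/
theorem ker_stalkMap {X V : Scheme.{u}} (j : X ⟶ V) [IsClosedImmersion j] (x : X)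
    (U : V.affineOpens) (hx : j x ∈ U.1) :
    RingHom.ker (j.stalkMap x).hom =
      (j.ker.ideal U).map (V.presheaf.germ U.1 (j x) hx).hom := by
  have hU : IsAffineOpen U.1 := U.2
  have hU' : IsAffineOpen (j ⁻¹ᵁ U.1) := hU.preimage j
  have hxU' : x ∈ j ⁻¹ᵁ U.1 := hx
  apply le_antisymm
  · intro b hb
    rw [RingHom.mem_ker] at hb
    letI := V.presheaf.algebra_section_stalk (U := U.1) ⟨j x, hx⟩
    haveI := hU.isLocalization_stalk ⟨j x, hx⟩
    letI := X.presheaf.algebra_section_stalk (U := j ⁻¹ᵁ U.1) ⟨x, hxU'⟩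
    haveI := hU'.isLocalization_stalk ⟨x, hxU'⟩
    obtain ⟨⟨s, g⟩, hsg⟩ := IsLocalization.surj (hU.primeIdealOf ⟨j x, hx⟩).asIdeal.primeCompl b
    have hgerm : ∀ r : Γ(V, U.1), algebraMap Γ(V, U.1) (V.presheaf.stalk (j x)) r =
        (V.presheaf.germ U.1 (j x) hx).hom r := fun r => rfl
    have hgerm' : ∀ r : Γ(X, j ⁻¹ᵁ U.1), algebraMap Γ(X, j ⁻¹ᵁ U.1) (X.presheaf.stalk x) r =
        (X.presheaf.germ (j ⁻¹ᵁ U.1) x hxU').hom r := fun r => rfl
    simp only at hsg
    -- `stalkMap (germ s) = 0`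
    have h1 : (X.presheaf.germ (j ⁻¹ᵁ U.1) x hxU').hom ((j.app U.1).hom s) = 0 := by
      have := Scheme.Hom.germ_stalkMap_apply j U.1 x hx s
      rw [← hgerm, ← hsg, map_mul] at this
      have hb' : (j.stalkMap x) b = 0 := hb
      rw [hb', zero_mul] at this
      exact this.symm
    rw [← hgerm'] at h1
    obtain ⟨⟨h, hh⟩, hhs⟩ := (IsLocalization.map_eq_zero_iff
      (hU'.primeIdealOf ⟨x, hxU'⟩).asIdeal.primeCompl (X.presheaf.stalk x) _).1 h1
    simp only at hhs
    obtain ⟨h', rfl⟩ := j.app_surjective U.1 hU h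
    have h2 : h' * s ∈ j.ker.ideal U := by
      rw [Scheme.Hom.ker_apply, RingHom.mem_ker, map_mul]
      exact hhs
    -- `germ h'` is a unit
    have hunit' : IsUnit ((X.presheaf.germ (j ⁻¹ᵁ U.1) x hxU').hom ((j.app U.1).hom h')) := by
      rw [← hgerm']
      exact (IsLocalization.AtPrime.isUnit_to_map_iff _
        (hU'.primeIdealOf ⟨x, hxU'⟩).asIdeal _).2 hh
    have hunit : IsUnit ((V.presheaf.germ U.1 (j x) hx).hom h') := by
      have := Scheme.Hom.germ_stalkMap_apply j U.1 x hx h'
      rw [← this] at hunit'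
      exact isUnit_of_map_unit (j.stalkMap x).hom _ hunit'
    have hgunit : IsUnit ((V.presheaf.germ U.1 (j x) hx).hom g.1) := by
      rw [← hgerm]
      exact (IsLocalization.AtPrime.isUnit_to_map_iff _
        (hU.primeIdealOf ⟨j x, hx⟩).asIdeal _).2 g.2
    have h3 : (V.presheaf.germ U.1 (j x) hx).hom (h' * s) ∈
        (j.ker.ideal U).map (V.presheaf.germ U.1 (j x) hx).hom := Ideal.mem_map_of_mem _ h2
    rw [map_mul, ← hgerm s, ← hsg, hgerm] at h3
    have h4 := (Ideal.unit_mul_mem_iff_mem _ hunit).1 h3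
    exact (Ideal.mul_unit_mem_iff_mem _ hgunit).1 h4
  · rw [Ideal.map_le_iff_le_comap]
    intro s hs
    rw [Scheme.Hom.ker_apply, RingHom.mem_ker] at hs
    rw [Ideal.mem_comap, RingHom.mem_ker]
    have := Scheme.Hom.germ_stalkMap_apply j U.1 x hx s
    have hs' : (j.app U.1) s = 0 := hs
    rw [hs', map_zero] at this
    exact this

theorem isIso_stalkMap_comp {X V : Scheme.{u}} (π : V ⟶ X) (j : X ⟶ V) (hj : j ≫ π = 𝟙 X) (x : X) :
    IsIso (π.stalkMap (j.base x) ≫ j.stalkMap x) := by
  haveI : IsIso (j ≫ π) := by rw [hj]; infer_instance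
  haveI : IsOpenImmersion (j ≫ π) := inferInstance
  have h : IsIso ((j ≫ π).stalkMap x) := inferInstance
  rw [Scheme.Hom.stalkMap_comp] at h
  exact h

variable {X V : Scheme.{u}} (π : V ⟶ X) [LocallyOfFiniteType π]
    (j : X ⟶ V) [IsClosedImmersion j]

set_option backward.isDefEq.respectTransparency.types false in
theorem main_sch (hj : j ≫ π = 𝟙 X) (hJ : BlowUp.IsEffCartierIdeal j.ker) (x : X) :
    ∃ _ : IsDomain ((π.fiber (π.base (j.base x))).presheaf.stalk (π.asFiber (j.base x))),
      IsDiscreteValuationRing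
        ((π.fiber (π.base (j.base x))).presheaf.stalk (π.asFiber (j.base x))) := by
  obtain ⟨e⟩ := Helper21.FibreStalk.nonempty_fibreStalkEquiv π (j.base x)
  obtain ⟨U, hxU, t', ht', hideal⟩ := hJ (j.base x)
  -- Noetherianity of the fibre stalk
  haveI : LocallyOfFiniteType (π.fiberToSpecResidueField (π.base (j.base x))) :=
    MorphismProperty.pullback_snd _ _ inferInstance
  haveI : IsLocallyNoetherian (π.fiber (π.base (j.base x))) :=
    LocallyOfFiniteType.isLocallyNoetherian (π.fiberToSpecResidueField (π.base (j.base x)))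
  haveI hN : IsNoetherianRing (V.presheaf.stalk (j.base x) ⧸
      (maximalIdeal (X.presheaf.stalk (π.base (j.base x)))).map (π.stalkMap (j.base x)).hom) :=
    isNoetherianRing_of_ringEquiv _ e
  let t : V.presheaf.stalk (j.base x) := (V.presheaf.germ U.1 (j.base x) hxU).hom t'
  have htz : t ∈ nonZeroDivisors (V.presheaf.stalk (j.base x)) := by
    letI := V.presheaf.algebra_section_stalk (U := U.1) ⟨j.base x, hxU⟩
    haveI := U.2.isLocalization_stalk ⟨j.base x, hxU⟩
    have := IsLocalization.map_nonZeroDivisors_le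
      (U.2.primeIdealOf ⟨j.base x, hxU⟩).asIdeal.primeCompl (V.presheaf.stalk (j.base x))
    refine this ?_
    exact ⟨t', ht', rfl⟩
  have hker : RingHom.ker (j.stalkMap x).hom = Ideal.span {t} := by
    rw [ker_stalkMap j x U hxU, hideal, Ideal.map_span, Set.image_singleton]
  have hbij : Function.Bijective ((j.stalkMap x).hom.comp (π.stalkMap (j.base x)).hom) := by
    have h2 : IsIso (π.stalkMap (j.base x) ≫ j.stalkMap x) := isIso_stalkMap_comp π j hj x
    exact ConcreteCategory.bijective_of_isIso (π.stalkMap (j.base x) ≫ j.stalkMap x)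
  obtain ⟨hd, hdvr⟩ := main (π.stalkMap (j.base x)).hom (j.stalkMap x).hom hbij t htz hker
  haveI hd' : IsDomain ((π.fiber (π.base (j.base x))).presheaf.stalk (π.asFiber (j.base x))) :=
    MulEquiv.isDomain _ e.toMulEquiv
  exact ⟨hd', IsDiscreteValuationRing.RingEquivClass.isDiscreteValuationRing e.symm⟩

end Groth.Agent.Lib.Helper24.SecDvr
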